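import Groth.Prelude.Def_K0Var

/-!
# The class of a finite disjoint union
-/

set_option autoImplicit false
set_option maxHeartbeats 400000
universe u
open CategoryTheory CategoryTheory.Limits AlgebraicGeometry

namespace Groth.Agent.Zeta5

theorem isClosedImmersion_of_cover {ι : Type*} {T : Scheme.{u}} {P : ι → Scheme.{u}} (jm : ∀ i, P i ⟶ T)
    [∀ i, IsOpenImmersion (jm i)] (hd : Pairwise fun a b => Disjoint (Set.range (jm a)) (Set.range (jm b)))
    (hcov : ∀ x : T, ∃ i, x ∈ Set.range (jm i)) (i : ι) : IsClosedImmersion (jm i) := by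
  refine .of_isPreimmersion _ ⟨?_⟩
  have hc : (Set.range (jm i))ᶜ = ⋃ b ∈ {b | b ≠ i}, Set.range (jm b) := by
    ext x
    simp only [Set.mem_compl_iff, Set.mem_iUnion, Set.mem_setOf_eq, exists_prop]
    constructor
    · intro hx
      obtain ⟨b, hb⟩ := hcov x
      exact ⟨b, fun h => hx (h ▸ hb), hb⟩
    · rintro ⟨b, hbi, hb⟩ hx
      exact Set.disjoint_left.mp (hd hbi) hb hx
  rw [hc]
  exact isOpen_biUnion fun b _ => (jm b).isOpenEmbedding.isOpen_range

theorem cl_ι_eq_sum {ι : Type*} {S T : Scheme.{u}} (h : T ⟶ S) [LocallyOfFiniteType h] [QuasiCompact h]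
    {P : ι → Scheme.{u}} (jm : ∀ i, P i ⟶ T) [∀ i, IsOpenImmersion (jm i)] [∀ i, IsClosedImmersion (jm i)]
    (hd : Pairwise fun a b => Disjoint (Set.range (jm a)) (Set.range (jm b)))
    (s : Finset ι) (W : T.Opens) [IsClosedImmersion W.ι]
    (hW : (W : Set T) = ⋃ i ∈ s, Set.range (jm i)) :
    K0Var.cl (W.ι ≫ h) = ∑ i ∈ s, K0Var.cl (jm i ≫ h) := by
  classical
  induction s using Finset.induction generalizing W with
  | empty =>
    rw [Finset.sum_empty]
    have : IsEmpty (W.toScheme : Scheme.{u}) := ⟨fun x => by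
      have hx : (x.1 : T) ∈ (W : Set T) := x.2
      rw [hW] at hx
      simp at hx⟩
    exact K0Var.Gen.cl_eq_zero_of_isEmpty (K0Var.Gen.mk W.toScheme (W.ι ≫ h))
  | @insert a s ha ih =>
    rw [Finset.sum_insert ha]
    let U : T.Opens := ⟨⋃ i ∈ s, Set.range (jm i),
      isOpen_biUnion fun b _ => (jm b).isOpenEmbedding.isOpen_range⟩
    have hUc : IsClosedImmersion U.ι := by
      refine .of_isPreimmersion _ ?_
      rw [Scheme.Opens.range_ι]
      exact Set.Finite.isClosed_biUnion s.finite_toSet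
        fun b _ => (jm b).isClosedEmbedding.isClosed_range
    have hUW : U ≤ W := by
      intro x hx
      show x ∈ (W : Set T)
      rw [hW, Finset.set_biUnion_insert]
      exact Or.inr hx
    have haW : Set.range (jm a) ⊆ Set.range W.ι := by
      rw [Scheme.Opens.range_ι, hW, Finset.set_biUnion_insert]
      exact Set.subset_union_left
    let ja := IsOpenImmersion.lift W.ι (jm a) haW
    have hja : ja ≫ W.ι = jm a := IsOpenImmersion.lift_fac _ _ _
    have hUi : T.homOfLE hUW ≫ W.ι = U.ι := Scheme.homOfLE_ι _ _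
    have : IsClosedImmersion ja := by
      have : IsClosedImmersion (ja ≫ W.ι) := hja ▸ inferInstance
      exact IsClosedImmersion.of_comp ja W.ι
    have : IsOpenImmersion ja := by
      have : IsOpenImmersion (ja ≫ W.ι) := hja ▸ inferInstance
      exact IsOpenImmersion.of_comp ja W.ι
    have : IsClosedImmersion (T.homOfLE hUW) := by
      have : IsClosedImmersion (T.homOfLE hUW ≫ W.ι) := hUi ▸ hUc
      exact IsClosedImmersion.of_comp _ W.ι
    have hr : Set.range (T.homOfLE hUW) = (Set.range ja)ᶜ := by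
      ext w
      have hmem : (w : W.toScheme) ∈ Set.range ja ↔ W.ι w ∈ Set.range (jm a) := by
        rw [← hja]
        constructor
        · rintro ⟨z, rfl⟩; exact ⟨z, rfl⟩
        · rintro ⟨z, hz⟩; exact ⟨z, W.ι.isOpenEmbedding.injective hz⟩
      have hmemU : (w : W.toScheme) ∈ Set.range (T.homOfLE hUW) ↔ W.ι w ∈ (U : Set T) := by
        rw [← Scheme.Opens.range_ι U, ← hUi]
        constructor
        · rintro ⟨z, rfl⟩; exact ⟨z, rfl⟩
        · rintro ⟨z, hz⟩; exact ⟨z, W.ι.isOpenEmbedding.injective hz⟩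
      rw [Set.mem_compl_iff, hmem, hmemU]
      constructor
      · intro hu hx
        obtain ⟨b, hb, hxb⟩ := Set.mem_iUnion₂.mp hu
        exact Set.disjoint_left.mp (hd fun (h : b = a) => ha (h ▸ hb)) hxb hx
      · intro hx
        have hwW : W.ι w ∈ (W : Set T) := by
          rw [← Scheme.Opens.range_ι W]; exact ⟨w, rfl⟩
        rw [hW, Finset.set_biUnion_insert] at hwW
        exact hwW.resolve_left hx
    rw [K0Var.cl_scissor (W.ι ≫ h) (T.homOfLE hUW) ja hr, add_comm]
    congr 1
    · exact K0Var.cl_congr _ _ (Iso.refl _) (by rw [Iso.refl_hom, Category.id_comp, ← Category.assoc, hja])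
    · rw [← ih U rfl]
      exact K0Var.cl_congr _ _ (Iso.refl _) (by rw [Iso.refl_hom, Category.id_comp, ← Category.assoc, hUi])

theorem cl_eq_sum {ι : Type*} [Fintype ι] {S T : Scheme.{u}} (h : T ⟶ S) [LocallyOfFiniteType h] [QuasiCompact h]
    {P : ι → Scheme.{u}} (jm : ∀ i, P i ⟶ T) [∀ i, IsOpenImmersion (jm i)] [∀ i, IsClosedImmersion (jm i)]
    (hd : Pairwise fun a b => Disjoint (Set.range (jm a)) (Set.range (jm b)))
    (hcov : ∀ x : T, ∃ i, x ∈ Set.range (jm i)) :
    K0Var.cl h = ∑ i, K0Var.cl (jm i ≫ h) := by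
  have : IsClosedImmersion (⊤ : T.Opens).ι := IsClosedImmersion.of_isPreimmersion _
    (by rw [Scheme.Opens.range_ι]; exact isClosed_univ)
  rw [← cl_ι_eq_sum h jm hd Finset.univ ⊤
    (Set.eq_of_subset_of_subset (fun x _ => by
      obtain ⟨i, hi⟩ := hcov x
      exact Set.mem_iUnion₂.mpr ⟨i, Finset.mem_univ i, hi⟩) (fun _ _ => trivial))]
  exact K0Var.cl_congr _ _ T.topIso.symm (by
    rw [Iso.symm_hom, ← Category.assoc, ← Scheme.topIso_hom, Iso.inv_hom_id, Category.id_comp]
    )

end Groth.Agent.Zeta5
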