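import Groth.Agent.Zeta5.SymPiece

/-!
# Symmetric powers of a disjoint union
-/

set_option autoImplicit false
set_option maxHeartbeats 400000
universe u
open CategoryTheory CategoryTheory.Limits AlgebraicGeometry

namespace Groth.Agent.Zeta5

variable {X X' Y : Scheme.{u}} {f : X ⟶ Y} {f' : X' ⟶ Y}
  {Sy : ℕ → Scheme.{u}} {q : ∀ m, SymProd.fibPow f m ⟶ Sy m} {g : ∀ m, Sy m ⟶ Y}
  (hS : ∀ m, SymProd.IsSymProd f m (q m) (g m))
  {Sy' : ℕ → Scheme.{u}} {q' : ∀ m, SymProd.fibPow f' m ⟶ Sy' m} {g' : ∀ m, Sy' m ⟶ Y}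
  (hS' : ∀ m, SymProd.IsSymProd f' m (q' m) (g' m))
  (hY : ∀ m : ℕ, 0 < m → IsUnit ((m : ℕ) : Γ(Y, ⊤)))

variable (f f') in
/-- The action of the two symmetric groups on the product of the fibre powers. -/
noncomputable def blockAct (i j : ℕ) :
    ULift.{u} (Equiv.Perm (Fin i) × Equiv.Perm (Fin j)) →*
      Aut (pullback (WidePullback.base fun _ : Fin i => f) (WidePullback.base fun _ : Fin j => f')) where
  toFun σ := ⟨blockHom f f' σ.down.1 σ.down.2, blockHom f f' σ.down.1⁻¹ σ.down.2⁻¹,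
    by rw [← blockHom_mul, inv_mul_cancel, inv_mul_cancel, blockHom_one],
    by rw [← blockHom_mul, mul_inv_cancel, mul_inv_cancel, blockHom_one]⟩
  map_one' := Iso.ext blockHom_one
  map_mul' a b := Iso.ext (blockHom_mul a.down.1 b.down.1 a.down.2 b.down.2)

/-- The product of two quotient maps. -/
noncomputable def prodQ (i j : ℕ) :
    pullback (WidePullback.base fun _ : Fin i => f) (WidePullback.base fun _ : Fin j => f') ⟶
      pullback (g i) (g' j) :=
  pullback.map _ _ _ _ (q i) (q' j) (𝟙 Y) ((Category.comp_id _).trans (hS i).over.symm)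
    ((Category.comp_id _).trans (hS' j).over.symm)

include hY in
theorem isQuot_prodQ (i j : ℕ) : SGA1.IsQuot (blockAct f f' i j) (prodQ hS hS' i j) :=
  Sym20.isQuot_prod_symProd (Or.inr hY) (hS i) (hS' j) _ fun _ => ⟨blockHom_fst _ _, blockHom_snd _ _⟩

include hY in
theorem blockHom_prodQ {i j : ℕ} (α : Equiv.Perm (Fin i)) (β : Equiv.Perm (Fin j)) :
    blockHom f f' α β ≫ prodQ hS hS' i j = prodQ hS hS' i j :=
  (isQuot_prodQ hS hS' hY i j).inv ⟨(α, β)⟩

/-- The `n`-th coefficient of the product of the two zeta functions, as a scheme. -/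
noncomputable abbrev total (g : ∀ m, Sy m ⟶ Y) (g' : ∀ m, Sy' m ⟶ Y) (n : ℕ) : Scheme.{u} :=
  ∐ fun p : ↥(Finset.HasAntidiagonal.antidiagonal n) => pullback (g p.1.1) (g' p.1.2)

variable {n : ℕ}

theorem mem_antidiagonal_of_equiv {i j : ℕ} (e : Fin i ⊕ Fin j ≃ Fin n) :
    (i, j) ∈ Finset.HasAntidiagonal.antidiagonal n := by
  have h := Fintype.card_congr e
  simp only [Fintype.card_sum, Fintype.card_fin] at h
  simpa using h

/-- The map from a piece to the total. -/
noncomputable def pieceMap {i j : ℕ} {e : Fin i ⊕ Fin j ≃ Fin n} {c : Fin n → Bool} (he : Adapted e c) :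
    (piece f f' n c).toScheme ⟶ total g g' n :=
  coord f f' he ≫ prodQ hS hS' i j ≫
    Sigma.ι (fun p : ↥(Finset.HasAntidiagonal.antidiagonal n) => pullback (g p.1.1) (g' p.1.2))
      ⟨(i, j), mem_antidiagonal_of_equiv e⟩

include hY in
theorem pieceMap_comp {i j i' j' : ℕ} {e : Fin i ⊕ Fin j ≃ Fin n} {c : Fin n → Bool} (he : Adapted e c)
    {e' : Fin i' ⊕ Fin j' ≃ Fin n} {c' : Fin n → Bool} (he' : Adapted e' c')
    (σ : Equiv.Perm (Fin n)) (hcc : ∀ a, c' (σ a) = c a)
    (l : (piece f f' n c).toScheme ⟶ (piece f f' n c').toScheme)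
    (hl : l ≫ (piece f f' n c').ι =
      (piece f f' n c).ι ≫ SymProd.permHom (coprod.desc f f') n σ) :
    l ≫ pieceMap hS hS' he' = pieceMap hS hS' he := by
  have he2 : Adapted (e.trans σ) c' := fun s => (hcc (e s)).trans (he s)
  obtain ⟨rfl, rfl⟩ := card_eq_of_adapted he2 he'
  obtain ⟨α, β, hab⟩ := exists_blocks he2 he'
  have key : l ≫ coord f f' he' ≫ blockHom f f' α β = coord f f' he := by
    apply emb_cancel (e.trans σ)
    rw [Category.assoc, Category.assoc, blockHom_emb, ← hab, coord_emb, hl, ← coord_emb he,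
      Category.assoc, emb_perm]
  unfold pieceMap
  rw [← key]
  simp only [Category.assoc]
  rw [reassoc_of% blockHom_prodQ hS hS' hY α β]

variable (f f' n) in
theorem nonempty_isColimit_pieces :
    Nonempty (IsColimit (Cofan.mk (SymProd.fibPow (coprod.desc f f') n)
      fun c : Fin n → Bool => (piece f f' n c).ι)) := by
  refine nonempty_isColimit_cofanMk_of _ ?_ fun c c' hne => ?_
  · rw [eq_top_iff]
    intro z _
    obtain ⟨c, hc⟩ := exists_mem_piece z
    refine TopologicalSpace.Opens.mem_iSup.mpr ⟨c, ?_⟩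
    rw [Scheme.Opens.opensRange_ι]
    exact hc
  · simp only [Function.onFun, Scheme.Opens.opensRange_ι]
    rw [disjoint_iff_inf_le]
    rintro z ⟨h, h'⟩
    exact (hne (piece_unique h h')).elim

include hY hS hS' in
/-- The `n`-th symmetric power of a disjoint union is the disjoint union of the products of symmetric powers. -/
theorem exists_iso_total {T : Scheme.{u}} {Q : SymProd.fibPow (coprod.desc f f') n ⟶ T} {h : T ⟶ Y}
    (hT : SymProd.IsSymProd (coprod.desc f f') n Q h) :
    ∃ φ : ∀ p : ↥(Finset.HasAntidiagonal.antidiagonal n), pullback (g p.1.1) (g' p.1.2) ⟶ T,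
      IsIso (Sigma.desc φ) ∧ ∀ p, φ p ≫ h = pullback.fst (g p.1.1) (g' p.1.2) ≫ g p.1.1 := by
  have hQ : ∀ σ : Equiv.Perm (Fin n), SymProd.permHom (coprod.desc f f') n σ ≫ Q = Q := fun σ =>
    hT.isQuot.inv ⟨σ⟩
  have indep : ∀ {i j : ℕ} (e e' : Fin i ⊕ Fin j ≃ Fin n), emb f f' n e ≫ Q = emb f f' n e' ≫ Q :=
    fun {i j} e e' => by
      conv_lhs => rw [← hQ (e.symm.trans e'), ← Category.assoc, emb_perm]
      rw [show e.trans (e.symm.trans e') = e' from Equiv.ext fun s => by simp]
  have hsum : ∀ p : ↥(Finset.HasAntidiagonal.antidiagonal n), p.1.1 + p.1.2 = n := fun p =>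
    Finset.HasAntidiagonal.mem_antidiagonal.mp p.2
  let e₀ : ∀ p : ↥(Finset.HasAntidiagonal.antidiagonal n), Fin p.1.1 ⊕ Fin p.1.2 ≃ Fin n := fun p =>
    finSumFinEquiv.trans (finCongr (hsum p))
  have hφ : ∀ p : ↥(Finset.HasAntidiagonal.antidiagonal n), ∃ k : pullback (g p.1.1) (g' p.1.2) ⟶ T,
      prodQ hS hS' p.1.1 p.1.2 ≫ k = emb f f' n (e₀ p) ≫ Q := fun p =>
    Quot84.exists_desc (isQuot_prodQ hS hS' hY _ _) _ fun σ => by
      show blockHom f f' σ.down.1 σ.down.2 ≫ _ = _
      rw [← Category.assoc, blockHom_emb]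
      exact indep _ _
  choose φ hφ using hφ
  refine ⟨φ, ?_, fun p => ?_⟩
  · choose i j e he using fun c : Fin n → Bool => exists_adapted c
    obtain ⟨hcol⟩ := nonempty_isColimit_pieces f f' n
    let M : SymProd.fibPow (coprod.desc f f') n ⟶ total g g' n :=
      Cofan.IsColimit.desc hcol fun c => pieceMap hS hS' (he c)
    have hM : ∀ c, (piece f f' n c).ι ≫ M = pieceMap hS hS' (he c) := fun c =>
      Cofan.IsColimit.fac hcol _ c
    have hinv : ∀ σ : ULift.{u} (Equiv.Perm (Fin n)),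
        (SymProd.permActU (coprod.desc f f') n σ).hom ≫ M = M := by
      rintro ⟨σ⟩
      refine Cofan.IsColimit.hom_ext hcol _ _ fun c => ?_
      show (piece f f' n c).ι ≫ SymProd.permHom _ n σ ≫ M = (piece f f' n c).ι ≫ M
      let c' : Fin n → Bool := fun a => c (σ.symm a)
      have hmem : Set.range ((piece f f' n c).ι ≫ SymProd.permHom (coprod.desc f f') n σ) ⊆
          Set.range (piece f f' n c').ι := by
        rintro _ ⟨z, rfl⟩
        rw [Scheme.Opens.range_ι]
        refine mem_piece.mpr fun a => ?_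
        rw [← Scheme.Hom.comp_apply, Category.assoc, SymProd.permHom_π]
        exact mem_piece.mp z.2 (σ.symm a)
      have hl := IsOpenImmersion.lift_fac (piece f f' n c').ι
        ((piece f f' n c).ι ≫ SymProd.permHom (coprod.desc f f') n σ) hmem
      rw [← Category.assoc, ← hl, Category.assoc, hM, hM]
      exact pieceMap_comp hS hS' hY (he c) (he c') σ (fun a => by simp [c']) _ hl
    obtain ⟨ψ, hψ⟩ := Quot84.exists_desc hT.isQuot M hinv
    refine ⟨⟨ψ, ?_, ?_⟩⟩
    · refine Sigma.hom_ext _ _ fun p => ?_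
      rw [Sigma.ι_desc_assoc, Category.comp_id]
      apply Quot84.eq_of_comp_eq (isQuot_prodQ hS hS' hY _ _)
      let cp : Fin n → Bool := fun a => ((e₀ p).symm a).isLeft
      have hp : Adapted (e₀ p) cp := fun s => by simp [cp]
      rw [← Category.assoc, hφ, Category.assoc, hψ, ← toPiece_ι hp, Category.assoc, hM]
      have h1 := pieceMap_comp hS hS' hY hp (he cp) 1 (fun a => rfl) (𝟙 _)
        (by rw [Category.id_comp, SymProd.permHom_one, Category.comp_id])
      rw [Category.id_comp] at h1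
      rw [h1, pieceMap, ← Category.assoc, toPiece_coord, Category.id_comp]
    · apply Quot84.eq_of_comp_eq hT.isQuot
      rw [← Category.assoc, hψ, Category.comp_id]
      refine Cofan.IsColimit.hom_ext hcol _ _ fun c => ?_
      show (piece f f' n c).ι ≫ M ≫ Sigma.desc φ = (piece f f' n c).ι ≫ Q
      rw [← Category.assoc, hM, pieceMap, Category.assoc, Category.assoc, Sigma.ι_desc]
      erw [hφ ⟨(i c, j c), mem_antidiagonal_of_equiv (e c)⟩]
      erw [indep (e₀ ⟨(i c, j c), mem_antidiagonal_of_equiv (e c)⟩) (e c)]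
      rw [← Category.assoc, coord_emb]
  · apply Quot84.eq_of_comp_eq (isQuot_prodQ hS hS' hY _ _)
    rw [← Category.assoc, hφ, Category.assoc, hT.over, emb_base]
    rw [prodQ, pullback.lift_fst_assoc, Category.assoc, (hS _).over]

end Groth.Agent.Zeta5
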