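import Groth.Agent.Sym20.ProdQuot
import Mathlib.GroupTheory.Perm.Finite

/-!
# The pieces of the fibre powers of a disjoint union
-/

set_option autoImplicit false
set_option maxHeartbeats 400000
universe u
open CategoryTheory CategoryTheory.Limits AlgebraicGeometry

namespace Groth.Agent.Zeta5

variable {X X' Y : Scheme.{u}} (f : X ⟶ Y) (f' : X' ⟶ Y) (n : ℕ)

/-- The two summands of `X ⨿ X'`. -/
noncomputable def sel (b : Bool) : (X ⨿ X').Opens :=
  cond b (coprod.inl : X ⟶ X ⨿ X').opensRange (coprod.inr : X' ⟶ X ⨿ X').opensRange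

/-- The points of the fibre power whose `a`-th component lies in the summand `c a`. -/
noncomputable def piece (c : Fin n → Bool) : (SymProd.fibPow (coprod.desc f f') n).Opens :=
  ⨅ a : Fin n, WidePullback.π (fun _ : Fin n => coprod.desc f f') a ⁻¹ᵁ sel (c a)

variable {f f' n}

theorem mem_piece {c : Fin n → Bool} {z : SymProd.fibPow (coprod.desc f f') n} :
    z ∈ piece f f' n c ↔ ∀ a, WidePullback.π (fun _ : Fin n => coprod.desc f f') a z ∈ sel (c a) := by
  rw [piece, ← SetLike.mem_coe, TopologicalSpace.Opens.coe_iInf, Set.mem_iInter]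
  rfl

theorem mem_sel_unique {b b' : Bool} {x : (X ⨿ X' : Scheme.{u})} (h : x ∈ sel b) (h' : x ∈ sel b') :
    b = b' := by
  have hd := (isCompl_range_inl_inr X X').disjoint
  cases b <;> cases b'
  · rfl
  · exact ((Set.disjoint_left.mp hd) h' h).elim
  · exact ((Set.disjoint_left.mp hd) h h').elim
  · rfl

theorem exists_mem_sel (x : (X ⨿ X' : Scheme.{u})) : ∃ b, x ∈ sel b := by
  rcases Set.mem_union _ _ _ |>.mp ((isCompl_range_inl_inr X X').sup_eq_top.ge (Set.mem_univ x)) with h | h
  · exact ⟨true, h⟩
  · exact ⟨false, h⟩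

theorem piece_unique {c c' : Fin n → Bool} {z : SymProd.fibPow (coprod.desc f f') n}
    (h : z ∈ piece f f' n c) (h' : z ∈ piece f f' n c') : c = c' :=
  funext fun a => mem_sel_unique (mem_piece.mp h a) (mem_piece.mp h' a)

theorem exists_mem_piece (z : SymProd.fibPow (coprod.desc f f') n) : ∃ c, z ∈ piece f f' n c := by
  choose c hc using fun a => exists_mem_sel (WidePullback.π (fun _ : Fin n => coprod.desc f f') a z)
  exact ⟨c, mem_piece.mpr hc⟩

variable {i j : ℕ}

/-- `e` puts the first `i` letters on the places labelled `true`. -/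
def Adapted (e : Fin i ⊕ Fin j ≃ Fin n) (c : Fin n → Bool) : Prop := ∀ s, c (e s) = s.isLeft

theorem exists_adapted (c : Fin n → Bool) :
    ∃ (i j : ℕ) (e : Fin i ⊕ Fin j ≃ Fin n), Adapted e c := by
  classical
  let e1 := Fintype.equivFin {a // c a = true}
  let e2 := Fintype.equivFin {a // ¬ c a = true}
  refine ⟨_, _, (Equiv.sumCongr e1.symm e2.symm).trans (Equiv.sumCompl fun a => c a = true), ?_⟩
  rintro (k | l)
  · exact (e1.symm k).2
  · show c (e2.symm l).1 = false
    exact Bool.eq_false_iff.mpr (e2.symm l).2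

variable (f f' n)

/-- The inclusion of `X^i ×_Y X'^j` in the fibre power of `X ⨿ X'`. -/
noncomputable def emb (e : Fin i ⊕ Fin j ≃ Fin n) :
    pullback (WidePullback.base fun _ : Fin i => f) (WidePullback.base fun _ : Fin j => f') ⟶
      SymProd.fibPow (coprod.desc f f') n :=
  WidePullback.lift (pullback.fst _ _ ≫ WidePullback.base _)
    (fun a => Sum.elim (fun k => pullback.fst _ _ ≫ WidePullback.π _ k ≫ coprod.inl)
      (fun l => pullback.snd _ _ ≫ WidePullback.π _ l ≫ coprod.inr) (e.symm a))
    (fun a => by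
      rcases e.symm a with k | l
      · simp only [Sum.elim_inl, Category.assoc, coprod.inl_desc, WidePullback.π_arrow]
      · simp only [Sum.elim_inr, Category.assoc, coprod.inr_desc, WidePullback.π_arrow]
        exact pullback.condition.symm)

variable {f f' n}

theorem emb_base (e : Fin i ⊕ Fin j ≃ Fin n) :
    emb f f' n e ≫ WidePullback.base (fun _ : Fin n => coprod.desc f f') =
      pullback.fst (WidePullback.base fun _ : Fin i => f) (WidePullback.base fun _ : Fin j => f') ≫
        WidePullback.base (fun _ : Fin i => f) :=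
  WidePullback.lift_base _ _ _ _

theorem emb_inl (e : Fin i ⊕ Fin j ≃ Fin n) (k : Fin i) :
    emb f f' n e ≫ WidePullback.π _ (e (Sum.inl k)) =
      pullback.fst _ _ ≫ WidePullback.π (fun _ : Fin i => f) k ≫ coprod.inl := by
  rw [emb, WidePullback.lift_π, e.symm_apply_apply]
  rfl

theorem emb_inr (e : Fin i ⊕ Fin j ≃ Fin n) (l : Fin j) :
    emb f f' n e ≫ WidePullback.π _ (e (Sum.inr l)) =
      pullback.snd _ _ ≫ WidePullback.π (fun _ : Fin j => f') l ≫ coprod.inr := by
  rw [emb, WidePullback.lift_π, e.symm_apply_apply]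
  rfl

theorem emb_perm (e : Fin i ⊕ Fin j ≃ Fin n) (σ : Equiv.Perm (Fin n)) :
    emb f f' n e ≫ SymProd.permHom (coprod.desc f f') n σ = emb f f' n (e.trans σ) := by
  apply WidePullback.hom_ext
  · intro a
    rw [Category.assoc, SymProd.permHom_π]
    simp only [emb, WidePullback.lift_π]
    rfl
  · rw [Category.assoc, SymProd.permHom_base, emb_base, emb_base]

variable (f f')

/-- Permutation of the factors inside both blocks. -/
noncomputable def blockHom (α : Equiv.Perm (Fin i)) (β : Equiv.Perm (Fin j)) :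
    pullback (WidePullback.base fun _ : Fin i => f) (WidePullback.base fun _ : Fin j => f') ⟶
      pullback (WidePullback.base fun _ : Fin i => f) (WidePullback.base fun _ : Fin j => f') :=
  pullback.map _ _ _ _ (SymProd.permHom f i α) (SymProd.permHom f' j β) (𝟙 Y)
    ((Category.comp_id _).trans (SymProd.permHom_base f i α).symm)
    ((Category.comp_id _).trans (SymProd.permHom_base f' j β).symm)

variable {f f'}

theorem blockHom_fst (α : Equiv.Perm (Fin i)) (β : Equiv.Perm (Fin j)) :
    blockHom f f' α β ≫ pullback.fst _ _ = pullback.fst _ _ ≫ SymProd.permHom f i α :=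
  pullback.lift_fst _ _ _

theorem blockHom_snd (α : Equiv.Perm (Fin i)) (β : Equiv.Perm (Fin j)) :
    blockHom f f' α β ≫ pullback.snd _ _ = pullback.snd _ _ ≫ SymProd.permHom f' j β :=
  pullback.lift_snd _ _ _

theorem blockHom_one : blockHom f f' (1 : Equiv.Perm (Fin i)) (1 : Equiv.Perm (Fin j)) = 𝟙 _ := by
  apply pullback.hom_ext
  · rw [blockHom_fst, SymProd.permHom_one, Category.comp_id, Category.id_comp]
  · rw [blockHom_snd, SymProd.permHom_one, Category.comp_id, Category.id_comp]

theorem blockHom_mul (α α' : Equiv.Perm (Fin i)) (β β' : Equiv.Perm (Fin j)) :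
    blockHom f f' (α * α') (β * β') = blockHom f f' α' β' ≫ blockHom f f' α β := by
  apply pullback.hom_ext
  · rw [blockHom_fst, Category.assoc, blockHom_fst, ← Category.assoc, blockHom_fst, Category.assoc,
      SymProd.permHom_mul]
  · rw [blockHom_snd, Category.assoc, blockHom_snd, ← Category.assoc, blockHom_snd, Category.assoc,
      SymProd.permHom_mul]

theorem blockHom_emb (α : Equiv.Perm (Fin i)) (β : Equiv.Perm (Fin j)) (e : Fin i ⊕ Fin j ≃ Fin n) :
    blockHom f f' α β ≫ emb f f' n e = emb f f' n ((Equiv.sumCongr α β).trans e) := by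
  apply WidePullback.hom_ext
  · intro a
    obtain ⟨s, rfl⟩ := e.surjective a
    simp only [emb, Category.assoc, WidePullback.lift_π, Equiv.symm_trans_apply, e.symm_apply_apply]
    rcases s with k | l
    · simp only [Sum.elim_inl, Equiv.sumCongr_symm, Equiv.sumCongr_apply, Sum.map_inl]
      rw [← Category.assoc, blockHom_fst, Category.assoc, SymProd.permHom_π_assoc]
    · simp only [Sum.elim_inr, Equiv.sumCongr_symm, Equiv.sumCongr_apply, Sum.map_inr]
      rw [← Category.assoc, blockHom_snd, Category.assoc, SymProd.permHom_π_assoc]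
  · rw [Category.assoc, emb_base, emb_base, ← Category.assoc, blockHom_fst, Category.assoc,
      SymProd.permHom_base]

theorem emb_cancel {W : Scheme.{u}} (e : Fin i ⊕ Fin j ≃ Fin n)
    {a b : W ⟶ pullback (WidePullback.base fun _ : Fin i => f) (WidePullback.base fun _ : Fin j => f')}
    (h : a ≫ emb f f' n e = b ≫ emb f f' n e) : a = b := by
  have hbase : (a ≫ pullback.fst _ _) ≫ WidePullback.base (fun _ : Fin i => f) =
      (b ≫ pullback.fst _ _) ≫ WidePullback.base (fun _ : Fin i => f) := by
    rw [Category.assoc, Category.assoc, ← emb_base e, ← Category.assoc, h, Category.assoc]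
  apply pullback.hom_ext
  · apply WidePullback.hom_ext
    · intro k
      rw [← cancel_mono (coprod.inl : X ⟶ X ⨿ X'), Category.assoc, Category.assoc, Category.assoc,
        Category.assoc, ← emb_inl e, ← Category.assoc, h, Category.assoc]
    · exact hbase
  · apply WidePullback.hom_ext
    · intro l
      rw [← cancel_mono (coprod.inr : X' ⟶ X ⨿ X'), Category.assoc, Category.assoc, Category.assoc,
        Category.assoc, ← emb_inr e, ← Category.assoc, h, Category.assoc]
    · simpa only [Category.assoc, pullback.condition] using hbase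

section Adapted

variable {e : Fin i ⊕ Fin j ≃ Fin n} {c : Fin n → Bool} (he : Adapted e c)
include he

theorem emb_mem (z : (pullback (WidePullback.base fun _ : Fin i => f) (WidePullback.base fun _ : Fin j => f') : Scheme.{u})) :
    emb f f' n e z ∈ piece f f' n c := by
  refine mem_piece.mpr fun a => ?_
  obtain ⟨s, rfl⟩ := e.surjective a
  rw [he s, ← Scheme.Hom.comp_apply]
  rcases s with k | l
  · rw [emb_inl, ← Category.assoc, Scheme.Hom.comp_apply]
    exact ⟨_, rfl⟩
  · rw [emb_inr, ← Category.assoc, Scheme.Hom.comp_apply]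
    exact ⟨_, rfl⟩

theorem range_inl_le (k : Fin i) :
    Set.range ((piece f f' n c).ι ≫ WidePullback.π _ (e (Sum.inl k))) ⊆
      Set.range (coprod.inl : X ⟶ X ⨿ X') := by
  rintro _ ⟨z, rfl⟩
  have h := mem_piece.mp z.2 (e (Sum.inl k))
  rw [he] at h
  exact h

theorem range_inr_le (l : Fin j) :
    Set.range ((piece f f' n c).ι ≫ WidePullback.π _ (e (Sum.inr l))) ⊆
      Set.range (coprod.inr : X' ⟶ X ⨿ X') := by
  rintro _ ⟨z, rfl⟩
  have h := mem_piece.mp z.2 (e (Sum.inr l))
  rw [he] at h
  exact h

omit he in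
theorem inl_comp_base {k : Fin i} (he : Adapted e c) :
    IsOpenImmersion.lift coprod.inl ((piece f f' n c).ι ≫ WidePullback.π _ (e (Sum.inl k)))
      (range_inl_le he k) ≫ f = (piece f f' n c).ι ≫ WidePullback.base _ := by
  have h := IsOpenImmersion.lift_fac coprod.inl ((piece f f' n c).ι ≫ WidePullback.π _ (e (Sum.inl k)))
      (range_inl_le he k)
  have h2 := congrArg (fun m => m ≫ coprod.desc f f') h
  simpa only [Category.assoc, coprod.inl_desc, WidePullback.π_arrow] using h2

omit he in
theorem inr_comp_base {l : Fin j} (he : Adapted e c) :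
    IsOpenImmersion.lift coprod.inr ((piece f f' n c).ι ≫ WidePullback.π _ (e (Sum.inr l)))
      (range_inr_le he l) ≫ f' = (piece f f' n c).ι ≫ WidePullback.base _ := by
  have h := IsOpenImmersion.lift_fac coprod.inr ((piece f f' n c).ι ≫ WidePullback.π _ (e (Sum.inr l)))
      (range_inr_le he l)
  have h2 := congrArg (fun m => m ≫ coprod.desc f f') h
  simpa only [Category.assoc, coprod.inr_desc, WidePullback.π_arrow] using h2

variable (f f') in
/-- The coordinates on a piece. -/
noncomputable def coord :
    (piece f f' n c).toScheme ⟶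
      pullback (WidePullback.base fun _ : Fin i => f) (WidePullback.base fun _ : Fin j => f') :=
  pullback.lift
    (WidePullback.lift ((piece f f' n c).ι ≫ WidePullback.base _)
      (fun k => IsOpenImmersion.lift coprod.inl
        ((piece f f' n c).ι ≫ WidePullback.π _ (e (Sum.inl k))) (range_inl_le he k))
      (fun _ => inl_comp_base he))
    (WidePullback.lift ((piece f f' n c).ι ≫ WidePullback.base _)
      (fun l => IsOpenImmersion.lift coprod.inr
        ((piece f f' n c).ι ≫ WidePullback.π _ (e (Sum.inr l))) (range_inr_le he l))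
      (fun _ => inr_comp_base he))
    (by rw [WidePullback.lift_base, WidePullback.lift_base])

theorem coord_emb : coord f f' he ≫ emb f f' n e = (piece f f' n c).ι := by
  apply WidePullback.hom_ext
  · intro a
    obtain ⟨s, rfl⟩ := e.surjective a
    rw [Category.assoc]
    rcases s with k | l
    · rw [emb_inl, coord, pullback.lift_fst_assoc, WidePullback.lift_π_assoc, IsOpenImmersion.lift_fac]
    · rw [emb_inr, coord, pullback.lift_snd_assoc, WidePullback.lift_π_assoc, IsOpenImmersion.lift_fac]
  · rw [Category.assoc, emb_base, coord, pullback.lift_fst_assoc, WidePullback.lift_base]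

variable (f f') in
/-- The inclusion corestricted to its piece. -/
noncomputable def toPiece :
    pullback (WidePullback.base fun _ : Fin i => f) (WidePullback.base fun _ : Fin j => f') ⟶
      (piece f f' n c).toScheme :=
  IsOpenImmersion.lift (piece f f' n c).ι (emb f f' n e)
    (by rintro _ ⟨z, rfl⟩; rw [Scheme.Opens.range_ι]; exact emb_mem he z)

theorem toPiece_ι : toPiece f f' he ≫ (piece f f' n c).ι = emb f f' n e := IsOpenImmersion.lift_fac _ _ _

theorem toPiece_coord : toPiece f f' he ≫ coord f f' he = 𝟙 _ := by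
  apply emb_cancel e
  rw [Category.assoc, coord_emb, toPiece_ι, Category.id_comp]

end Adapted

theorem card_eq_of_adapted {i' j' : ℕ} {e : Fin i ⊕ Fin j ≃ Fin n} {c : Fin n → Bool} (he : Adapted e c)
    {e' : Fin i' ⊕ Fin j' ≃ Fin n} (he' : Adapted e' c) : i = i' ∧ j = j' := by
  classical
  have key : ∀ {p q : ℕ} (d : Fin p ⊕ Fin q ≃ Fin n), Adapted d c →
      Fintype.card {a // c a = true} = p ∧ p + q = n := fun {p q} d hd => by
    refine ⟨(Fintype.card_congr (Equiv.ofBijective
      (fun k => (⟨d (Sum.inl k), hd (Sum.inl k)⟩ : {a // c a = true})) ⟨?_, ?_⟩)).symm.trans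
        (Fintype.card_fin p), ?_⟩
    · intro a b h
      exact Sum.inl_injective (d.injective (congrArg Subtype.val h))
    · rintro ⟨a, ha⟩
      obtain ⟨s, rfl⟩ := d.surjective a
      rw [hd] at ha
      obtain ⟨k, rfl⟩ := Sum.isLeft_iff.mp ha
      exact ⟨k, rfl⟩
    · simpa using Fintype.card_congr d
  obtain ⟨h1, h2⟩ := key e he
  obtain ⟨h1', h2'⟩ := key e' he'
  omega

theorem exists_blocks {e e' : Fin i ⊕ Fin j ≃ Fin n} {c : Fin n → Bool} (he : Adapted e c)
    (he' : Adapted e' c) :
    ∃ (α : Equiv.Perm (Fin i)) (β : Equiv.Perm (Fin j)), e' = (Equiv.sumCongr α β).trans e := by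
  have hm : Set.MapsTo (e'.trans e.symm) (Set.range Sum.inl) (Set.range Sum.inl) := by
    rintro _ ⟨k, rfl⟩
    obtain ⟨s, hs⟩ := e.surjective (e' (Sum.inl k))
    have h1 := he' (Sum.inl k)
    rw [← hs, he] at h1
    obtain ⟨k', rfl⟩ := Sum.isLeft_iff.mp h1
    exact ⟨k', by rw [Equiv.trans_apply, ← hs, e.symm_apply_apply]⟩
  obtain ⟨⟨α, β⟩, hαβ⟩ := Equiv.Perm.mem_sumCongrHom_range_of_perm_mapsTo_inl hm
  refine ⟨α, β, Equiv.ext fun s => ?_⟩
  rw [Equiv.Perm.sumCongrHom_apply] at hαβ
  rw [Equiv.trans_apply, show (Equiv.sumCongr α β) s = (e'.trans e.symm) s from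
    congrArg (fun π : Equiv.Perm (Fin i ⊕ Fin j) => π s) hαβ, Equiv.trans_apply, e.apply_symm_apply]

end Groth.Agent.Zeta5
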